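import Groth.Agent.H61.CdTrans.Leray
import Groth.Agent.H61.FieldCoh.Continuity
import Groth.Agent.S0208
import Groth.Agent.S0212
import Groth.Agent.S0213
import Groth.Agent.S0214
import Groth.Agent.S0620
import Groth.Agent.Lib.EtRad.Push
import Groth.Agent.Lib.EtJ.PullExact
import Groth.Agent.Lib.Henselian.StrictHenselization
import Mathlib.FieldTheory.RatFunc.AsPolynomial
import Mathlib.FieldTheory.AlgebraicClosure
import Mathlib.FieldTheory.PurelyInseparable.PerfectClosure
import Mathlib.RingTheory.PolynomialAlgebra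

/-!
# Cohomological dimension of transcendental extensions

* `bound_of_trdeg_one`: degree `≤ 1` over fields of transcendence degree one over separably closed fields.
* `bound_ratFunc`: `cd(k(X)) ≤ cd(k) + 1`.
-/

set_option autoImplicit false
set_option linter.style.haveILetI false

universe u

open CategoryTheory CategoryTheory.Limits CategoryTheory.Abelian AlgebraicGeometry Opposite
open scoped TensorProduct

noncomputable section

namespace Groth.Agent.H61.CdTrans

open Groth.Agent.H61.FieldCoh

/-- Sheaves killed by `N` have no cohomology above `d`. -/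
def Bound (X : Scheme.{u}) (N d : ℕ) : Prop :=
  ∀ G : EtCoh.Ab X, N • 𝟙 G = 0 → ∀ q : ℕ, d < q → ∀ x : EtCoh.H X G q, x = 0

theorem nsmul_id_map {X Y : Scheme.{u}} (Φ : EtCoh.Ab X ⥤ EtCoh.Ab Y) [Φ.Additive] {G : EtCoh.Ab X} {N : ℕ}
    (hG : N • 𝟙 G = 0) : N • 𝟙 (Φ.obj G) = 0 := by
  rw [← CategoryTheory.Functor.map_id, ← Functor.map_nsmul, hG, Functor.map_zero]

/-- The bound passes to schemes integral over the given one. -/
theorem Bound.of_integral {X Y : Scheme.{u}} (f : X ⟶ Y) [IsIntegralHom f] {N d : ℕ} (h : Bound Y N d) :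
    Bound X N d := by
  intro G hG q hq x
  haveI : PreservesLimitsOfSize.{0, 0} (EtCoh.push f) := (EtCoh.pullPushAdj f).rightAdjoint_preservesLimits
  haveI : PreservesFiniteLimits (EtCoh.push f) := ⟨fun _ _ _ => inferInstance⟩
  haveI : (EtCoh.push f).Additive := Functor.additive_of_preserves_binary_products _
  obtain ⟨e⟩ := FieldCoh.PushInt.nonempty_Hequiv f G q
  exact (e.apply_symm_apply x).symm.trans (by rw [h _ (nsmul_id_map (EtCoh.push f) hG) q hq (e.symm x), map_zero])

/-- The bound passes to finite extensions. -/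
theorem Bound.of_finite {K L : Type u} [Field K] [Field L] (φ : K →+* L) (hφ : φ.IsIntegral) {N d : ℕ}
    (h : Bound (S K) N d) : Bound (S L) N d :=
  haveI : IsIntegralHom (Spec.map (CommRingCat.ofHom φ)) := IsIntegralHom.SpecMap_iff.2 hφ
  h.of_integral (Spec.map (CommRingCat.ofHom φ))

/-- Degree at most one for fields of transcendence degree one over separably closed fields. -/
theorem bound_of_trdeg_one (R K : Type u) [Field R] [IsSepClosed R] [Field K] [Algebra R K]
    (hK : Algebra.trdeg R K = 1) {N : ℕ} (hN : 0 < N) : Bound (S K) N 1 := by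
  let M := AlgebraicClosure K
  let Rb : IntermediateField R M := algebraicClosure R M
  haveI : IsAlgClosure R Rb := algebraicClosure.isAlgClosure R M
  haveI : IsAlgClosed Rb := IsAlgClosure.isAlgClosed R
  let K' : IntermediateField K M := IntermediateField.adjoin K (Rb : Set M)
  haveI hpi : IsPurelyInseparable K K' := by
    rw [IntermediateField.isPurelyInseparable_adjoin_iff_pow_mem K M (ringExpChar K)]
    intro x hx
    haveI : ExpChar R (ringExpChar K) := (algebraMap R K).expChar (algebraMap R K).injective _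
    haveI : IsPurelyInseparable R Rb := separableClosure.eq_bot_iff.1
      (IntermediateField.eq_bot_of_isSepClosed_of_isSeparable (separableClosure R Rb))
    obtain ⟨n, r, hr⟩ := IsPurelyInseparable.pow_mem R (ringExpChar K) (⟨x, hx⟩ : Rb)
    refine ⟨n, algebraMap R K r, ?_⟩
    rw [← IsScalarTower.algebraMap_apply]
    exact congrArg Subtype.val hr
  haveI : Algebra.IsAlgebraic K K' := hpi.isAlgebraic
  let ψ : Rb →+* K' :=
    { toFun := fun x => ⟨x.1, IntermediateField.subset_adjoin K _ x.2⟩
      map_one' := rfl, map_mul' := fun _ _ => rfl, map_zero' := rfl, map_add' := fun _ _ => rfl }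
  letI : Algebra Rb K' := ψ.toAlgebra
  haveI : IsScalarTower R Rb K' := IsScalarTower.of_algebraMap_eq fun r => Subtype.ext
    (IsScalarTower.algebraMap_apply R K M r)
  have htr : Algebra.trdeg Rb K' = 1 := by
    have h1 := trdeg_add_eq R K (A := K')
    have h2 := trdeg_add_eq R Rb (A := K')
    rw [hK, trdeg_eq_zero, add_zero] at h1
    rw [trdeg_eq_zero (R := R) (A := Rb), zero_add] at h2
    rw [h2, ← h1]
  have hC : Curves.IsCr K' 1 := by
    intro n d g hg hd hdn
    obtain ⟨a, ha, h⟩ := Groth.Agent.S0212.result Rb K' 1 (by rw [htr]; norm_num) 1 n (fun _ => g) (fun _ => d)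
      (fun _ => hg) (fun _ => hd) (by simpa using hdn)
    exact ⟨a, ha, h 0⟩
  let u : S K' ⟶ S K := Spec.map (CommRingCat.ofHom (algebraMap K K'))
  haveI : IsIntegralHom u := IsIntegralHom.SpecMap_iff.2
    (algebraMap_isIntegral_iff.2 (Algebra.IsAlgebraic.isIntegral))
  haveI : Surjective u := ⟨fun y => ⟨(default : PrimeSpectrum K'), Subsingleton.elim (α := PrimeSpectrum K) _ y⟩⟩
  haveI : UniversallyInjective u := by
    refine ((tfae_universallyInjective u).out 0 1).2 ?_
    intro L _ g₁ g₂ hg
    obtain ⟨a₁, rfl⟩ := Spec.map_surjective g₁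
    obtain ⟨a₂, rfl⟩ := Spec.map_surjective g₂
    have h := Spec.map_injective ((Spec.map_comp _ _).trans (hg.trans (Spec.map_comp _ _).symm))
    exact congrArg Spec.map (CommRingCat.hom_ext
      (IsPurelyInseparable.injective_comp_algebraMap K K' L (congrArg CommRingCat.Hom.hom h)))
  intro G hG q hq x
  apply (Groth.Agent.Lib.EtRad.Push.Hpull_bijective u G q).1
  rw [map_zero]
  haveI := Groth.Agent.S0208.result K' (fun L _ _ _ D _ _ _ _ => Groth.Agent.S0214.result L
    (Groth.Agent.S0213.result K' L hC) D) ((EtCoh.pull u).obj G)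
    (isTorsion_of_nsmul_id hN (nsmul_id_map (EtCoh.pull u) hG)) q (by omega)
  exact Subsingleton.elim _ _

/-- The algebra `K(X) ⊗_k R` embeds into `R(X)`. -/
theorem exists_fibre (k R : Type u) [Field k] [Field R] [Algebra k R] [Algebra.IsAlgebraic k R] :
    ∃ (μ : RatFunc k ⊗[k] R →+* RatFunc R), Function.Bijective μ := by
  let ι : RatFunc k →ₐ[k] RatFunc R := RatFunc.liftAlgHom
    ((IsScalarTower.toAlgHom k (Polynomial R) (RatFunc R)).comp (Polynomial.mapAlgHom (Algebra.ofId k R)))
    (fun p hp => mem_nonZeroDivisors_of_ne_zero (by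
      simpa [Polynomial.map_eq_zero] using nonZeroDivisors.ne_zero hp))
  have hι : ∀ p : Polynomial k, ι (algebraMap (Polynomial k) (RatFunc k) p) =
      algebraMap (Polynomial R) (RatFunc R) (p.map (algebraMap k R)) := fun p => by
    simp only [ι, RatFunc.liftAlgHom_apply, RatFunc.num_algebraMap, RatFunc.denom_algebraMap]
    simp [Polynomial.coe_mapRingHom]
  let μ : RatFunc k ⊗[k] R →ₐ[k] RatFunc R :=
    Algebra.TensorProduct.lift ι (IsScalarTower.toAlgHom k R (RatFunc R)) fun _ _ => Commute.all _ _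
  let θ : R ⊗[k] Polynomial k →ₐ[k] RatFunc k ⊗[k] R :=
    (Algebra.TensorProduct.comm k R (RatFunc k)).toAlgHom.comp
      (Algebra.TensorProduct.map (AlgHom.id k R) (IsScalarTower.toAlgHom k (Polynomial k) (RatFunc k)))
  have hθ : ∀ w, μ (θ w) = algebraMap (Polynomial R) (RatFunc R) ((polyEquivTensor k R).symm w) := by
    intro w
    induction w using TensorProduct.induction_on with
    | zero => simp
    | add a b ha hb => simp only [map_add, ha, hb]
    | tmul r p =>
      rw [polyEquivTensor_symm_apply_tmul_eq_smul]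
      show ι (algebraMap _ _ p) * algebraMap R (RatFunc R) r = _
      rw [hι, Polynomial.smul_eq_C_mul, map_mul, mul_comm]
      rfl
  have hden : ∀ z, ∃ s : Polynomial k, s ≠ 0 ∧ ∃ w, z * (algebraMap _ (RatFunc k) s ⊗ₜ[k] 1) = θ w := by
    intro z
    induction z using TensorProduct.induction_on with
    | zero => exact ⟨1, one_ne_zero, 0, by simp⟩
    | tmul a r =>
      refine ⟨a.denom, a.denom_ne_zero, r ⊗ₜ a.num, ?_⟩
      show _ = algebraMap _ (RatFunc k) a.num ⊗ₜ[k] r
      rw [Algebra.TensorProduct.tmul_mul_tmul, mul_one]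
      congr 1
      exact (eq_div_iff ((map_ne_zero_iff _ (RatFunc.algebraMap_injective k)).2 a.denom_ne_zero)).1
        (RatFunc.num_div_denom a).symm
    | add a b ha hb =>
      obtain ⟨s, hs, w, hw⟩ := ha
      obtain ⟨t, ht, v, hv⟩ := hb
      have hm : ∀ (t : Polynomial k) (w : R ⊗[k] Polynomial k),
          θ w * (algebraMap _ (RatFunc k) t ⊗ₜ[k] (1 : R)) = θ (w * (1 ⊗ₜ t)) := fun t w => by
        rw [map_mul]
        rfl
      refine ⟨s * t, mul_ne_zero hs ht, w * (1 ⊗ₜ t) + v * (1 ⊗ₜ s), ?_⟩
      have e : (algebraMap _ (RatFunc k) (s * t) ⊗ₜ[k] (1 : R)) =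
          (algebraMap _ (RatFunc k) s ⊗ₜ[k] 1) * (algebraMap _ (RatFunc k) t ⊗ₜ[k] 1) := by
        rw [Algebra.TensorProduct.tmul_mul_tmul, map_mul, one_mul]
      rw [map_add, ← hm, ← hm, ← hw, ← hv, e]
      ring
  have hinj : Function.Injective μ := by
    rw [injective_iff_map_eq_zero]
    intro z hz
    obtain ⟨s, hs, w, hw⟩ := hden z
    have h0 : μ (θ w) = 0 := by rw [← hw, map_mul, hz, zero_mul]
    rw [hθ, map_eq_zero_iff _ (RatFunc.algebraMap_injective R), EmbeddingLike.map_eq_zero_iff] at h0
    rw [h0, map_zero] at hw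
    have hu : IsUnit (algebraMap _ (RatFunc k) s ⊗ₜ[k] (1 : R) : RatFunc k ⊗[k] R) :=
      ((map_ne_zero_iff _ (RatFunc.algebraMap_injective k)).2 hs).isUnit.map
        (Algebra.TensorProduct.includeLeftRingHom : RatFunc k →+* RatFunc k ⊗[k] R)
    exact hu.mul_left_eq_zero.1 hw
  haveI : IsDomain (RatFunc k ⊗[k] R) := hinj.isDomain μ.toRingHom
  haveI : Algebra.IsIntegral k R := Algebra.IsAlgebraic.isIntegral
  haveI : Algebra.IsIntegral (RatFunc k) (RatFunc k ⊗[k] R) := inferInstance
  have hF : IsField (RatFunc k ⊗[k] R) := isField_of_isIntegral_of_isField' (Field.toIsField (RatFunc k))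
  refine ⟨μ.toRingHom, hinj, fun y => ?_⟩
  have hP : ∀ p : Polynomial R, ∃ c, μ c = algebraMap _ (RatFunc R) p := fun p =>
    ⟨θ (polyEquivTensor k R p), by rw [hθ, AlgEquiv.symm_apply_apply]⟩
  obtain ⟨a, ha⟩ := hP y.num
  obtain ⟨b, hb⟩ := hP y.denom
  have hb0 : b ≠ 0 := fun h => (map_ne_zero_iff _ (RatFunc.algebraMap_injective R)).2 y.denom_ne_zero
    (by rw [← hb, h, map_zero])
  obtain ⟨c, hc⟩ := hF.mul_inv_cancel hb0
  refine ⟨a * c, ?_⟩
  show μ (a * c) = y
  have hc' : μ b * μ c = 1 := by rw [← map_mul, hc, map_one]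
  rw [← RatFunc.num_div_denom y, ← ha, ← hb, map_mul, div_eq_mul_inv, eq_inv_of_mul_eq_one_right hc']

/-- A sheaf on the spectrum of a field with zero stalk is zero. -/
theorem isZero_of_stalk {k : Type u} [Field k] {Ω : Type u} [Field Ω] [IsSepClosed Ω]
    (ξ : Spec (CommRingCat.of Ω) ⟶ S k) (G : EtCoh.Ab (S k)) (h : IsZero ((EtCoh.stalk ξ).obj G)) : IsZero G := by
  rw [IsZero.iff_id_eq_zero]
  haveI := AddCommGrpCat.subsingleton_of_isZero h
  apply CategoryTheory.Sheaf.hom_ext
  ext U s
  exact Groth.Agent.Lib.EtSite.Stalk.sections_ext_of_germ G s 0 fun y =>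
    ⟨Ω, inferInstance, inferInstance, ξ, Subsingleton.elim (α := PrimeSpectrum k) _ _, fun p =>
      Subsingleton.elim (α := ↥((EtCoh.stalk ξ).obj G)) _ _⟩

/-- `cd(k(X)) ≤ cd(k) + 1`. -/
theorem bound_ratFunc (k : Type u) [Field k] {N d : ℕ} (hN : 0 < N) (h : Bound (S k) N d) :
    Bound (S (RatFunc k)) N (d + 1) := by
  let f : S (RatFunc k) ⟶ S k := Spec.map (CommRingCat.ofHom (algebraMap k (RatFunc k)))
  intro F hF q hq x
  refine leray_bound f F N hF d (fun i hi => ?_) h q hq x
  let s : S k := (default : PrimeSpectrum k)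
  let st := (S k).presheaf.stalk s
  letI : Algebra k st := StructureSheaf.stalkAlgebra k s
  haveI : IsLocalization.AtPrime st (s : PrimeSpectrum k).asIdeal := StructureSheaf.IsLocalization.to_stalk k s
  have hσ : Function.Bijective (algebraMap k st) :=
    (IsLocalization.atUnits k (s : PrimeSpectrum k).asIdeal.primeCompl (S := st) fun y hy => by
      rw [IsUnit.mem_submonoid_iff, isUnit_iff_ne_zero]
      rintro rfl
      exact hy (zero_mem _)).bijective
  have hst : IsField st := (RingEquiv.ofBijective _ hσ).symm.toMulEquiv.isField (Field.toIsField k)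
  let R := Groth.Agent.Lib.Henselian.StrictHenselization.StrictHenselization st
  have hR : IsField R := by
    rw [IsLocalRing.isField_iff_maximalIdeal_eq, ← Groth.Agent.Lib.Henselian.StrictHenselization.map_maximalIdeal st R,
      (IsLocalRing.isField_iff_maximalIdeal_eq.1 hst), Ideal.map_bot]
  letI : Field R := hR.toField
  haveI : IsSepClosure (IsLocalRing.ResidueField st) (IsLocalRing.ResidueField R) :=
    Hensel.IsStrictHenselization.isSepClosure
  haveI : IsSepClosed (IsLocalRing.ResidueField R) := IsSepClosure.sep_closed (IsLocalRing.ResidueField st)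
  haveI : IsSepClosed R := Groth.Agent.Lib.Henselian.StrictHenselization.isSepClosed_of_ringEquiv
    (RingEquiv.ofBijective (IsLocalRing.residue R)
      ⟨(IsLocalRing.residue R).injective, IsLocalRing.residue_surjective⟩).symm
  letI : Algebra k R := ((algebraMap st R).comp (algebraMap k st)).toAlgebra
  haveI : Algebra.IsAlgebraic k R := by
    haveI : Algebra.IsSeparable (IsLocalRing.ResidueField st) (IsLocalRing.ResidueField R) :=
      IsSepClosure.separable
    have hi : ((IsLocalRing.ResidueField.map (algebraMap st R)).comp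
        ((IsLocalRing.residue st).comp (algebraMap k st))).IsIntegral :=
      RingHom.IsIntegral.trans _ _
        (RingHom.isIntegral_of_surjective _ (IsLocalRing.residue_surjective.comp hσ.2))
        (algebraMap_isIntegral_iff.2 (Algebra.IsAlgebraic.isIntegral))
    refine @Algebra.IsIntegral.isAlgebraic k R _ _ _ _ ⟨fun y => ?_⟩
    obtain ⟨p, hp, hy⟩ := hi (IsLocalRing.residue R y)
    refine ⟨p, hp, (IsLocalRing.residue R).injective ?_⟩
    rw [map_zero, ← hy, Polynomial.hom_eval₂]
    congr 1
  refine isZero_of_stalk (Hens2.geomPt (S k) s R) _ ?_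
  obtain ⟨e⟩ := Groth.Agent.S0620.result f F s R i
  refine IsZero.of_iso ?_ e
  haveI : Subsingleton (EtCoh.H (pullback f (Hens2.specOf (S k) s R))
      ((EtCoh.pull (pullback.fst f (Hens2.specOf (S k) s R))).obj F) i) := by
    refine subsingleton_of_forall_eq 0 (fun y => ?_)
    obtain ⟨μ, hμ⟩ := exists_fibre k R
    have htr : Algebra.trdeg R (RatFunc R) = 1 := by
      haveI : Algebra.IsAlgebraic (Polynomial R) (RatFunc R) :=
        IsLocalization.isAlgebraic (RatFunc R) (nonZeroDivisors (Polynomial R))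
      have h1 := trdeg_add_eq R (Polynomial R) (A := RatFunc R)
      rw [Polynomial.trdeg_of_isDomain, trdeg_eq_zero (R := Polynomial R) (A := RatFunc R), add_zero] at h1
      exact h1.symm
    have hs : Hens2.specOf (S k) s R = Spec.map (CommRingCat.ofHom (algebraMap k R)) := by
      show _ ≫ (S k).fromSpecStalk s = _
      refine (congrArg (Spec.map _ ≫ ·) (Spec.fromSpecStalk_eq' (CommRingCat.of k) s)).trans ?_
      refine (Spec.map_comp _ _).symm.trans ?_
      rfl
    let eμ := RingEquiv.ofBijective μ hμ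
    let E : pullback f (Hens2.specOf (S k) s R) ≅ S (RatFunc R) :=
      pullback.congrHom rfl hs ≪≫ pullbackSpecIso k (RatFunc k) R ≪≫ Scheme.Spec.mapIso eμ.symm.toCommRingCatIso.op
    exact Bound.of_integral E.hom (bound_of_trdeg_one R (RatFunc R) htr hN) _
      (nsmul_id_map (EtCoh.pull _) hF) i (by omega) y
  exact AddCommGrpCat.isZero_of_subsingleton _

end Groth.Agent.H61.CdTrans
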