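import Groth.Agent.Lib.EtJ.RightAcyclic
import Groth.Agent.H61.FieldCoh.Devissage
import Groth.Prelude.Def_EtCore

/-!
# A degenerate Leray bound

`leray_bound`: if `R^q f_* F = 0` for `q ≥ 2`, `F` is killed by `N` and sheaves killed by `N` on `Y` have no
cohomology above `d`, then `F` has no cohomology above `d + 1`.
-/

set_option autoImplicit false
set_option linter.style.haveILetI false

universe u

open CategoryTheory CategoryTheory.Limits CategoryTheory.Abelian AlgebraicGeometry Opposite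

noncomputable section

namespace Groth.Agent.H61.CdTrans

open Groth.Agent.Lib.EtJ RightAcyclic

variable {C : Type*} [Category C] [Abelian C] {D : Type*} [Category D] [Abelian D]
  [HasInjectiveResolutions C] {Z : C} (P : InjectiveResolution Z) (G : C ⥤ D) [G.Additive]
  [PreservesFiniteLimits G]

/-- The sequences of cycles stay exact above the vanishing degree. -/
theorem seq_map_shortExact_of_le (m : ℕ) (hG : ∀ q : ℕ, m < q → IsZero ((G.rightDerived q).obj Z))
    (k : ℕ) (hk : m ≤ k) : ((seq P k).map G).ShortExact := by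
  have hex : ((ShortComplex.mk _ _ (P.cocomplex.d_comp_d k (k + 1) (k + 2))).map G).Exact := by
    have h := (hG (k + 1) (by omega)).of_iso (P.isoRightDerivedObj G (k + 1)).symm
    exact (((G.mapHomologicalComplex _).obj P.cocomplex).exactAt_iff' k (k + 1) (k + 2)
      (by simp) (by simp)).1 ((HomologicalComplex.exactAt_iff_isZero_homology _ _).2 h)
  have hS := seq_shortExact P k
  refine
    { exact := hS.exact.map_of_mono_of_preservesKernel _ hS.mono_f inferInstance
      mono_f := have := hS.mono_f; G.map_mono _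
      epi_g := ?_ }
  have := hex.epi_kernelLift
  have e : G.map (seq P k).g ≫ kernelComparison (P.cocomplex.d (k + 1) (k + 2)) G =
      kernel.lift (G.map (P.cocomplex.d (k + 1) (k + 2))) (G.map (P.cocomplex.d k (k + 1)))
        (by rw [← G.map_comp, P.cocomplex.d_comp_d, G.map_zero]) := by
    rw [← cancel_mono (kernel.ι _)]
    simp
  have : Epi (G.map (seq P k).g ≫ kernelComparison (P.cocomplex.d (k + 1) (k + 2)) G) := by
    rw [e]; assumption
  exact (epi_comp_iff_of_isIso _ (kernelComparison (P.cocomplex.d (k + 1) (k + 2)) G)).1 this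

variable {X Y : Scheme.{u}} (f : X ⟶ Y)

/-- Vanishing descends from the direct image, degree one. -/
theorem step_one [(EtCoh.push f).Additive] {T : ShortComplex (EtCoh.Ab X)} (hT : T.ShortExact)
    (hT' : (T.map (EtCoh.push f)).ShortExact) [Injective T.X₂]
    (h : ∀ z : EtCoh.H Y ((EtCoh.push f).obj T.X₁) 1, z = 0) (x : EtCoh.H X T.X₁ 1) : x = 0 := by
  obtain ⟨x₃, rfl⟩ := Ext.covariant_sequence_exact₁ _ hT x (Ext.eq_zero_of_injective _) (zero_add 1)
  obtain ⟨φ, rfl⟩ := (Ext.mk₀_bijective _ _).2 x₃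
  let c := EtCore.pullConst f ℤ
  let φ' := (EtCoh.pullPushAdj f).homEquiv _ _ (c.hom ≫ φ)
  obtain ⟨ψ, hψ⟩ := Ext.covariant_sequence_exact₃ _ hT' (Ext.mk₀ φ') (zero_add 1) (h _)
  obtain ⟨ψ, rfl⟩ := (Ext.mk₀_bijective _ _).2 ψ
  rw [Ext.mk₀_comp_mk₀] at hψ
  have hψ' : ψ ≫ (EtCoh.push f).map T.g = φ' := (Ext.mk₀_bijective _ _).1 hψ
  have key : φ = (c.inv ≫ ((EtCoh.pullPushAdj f).homEquiv _ _).symm ψ) ≫ T.g := by
    rw [← cancel_epi c.hom, Category.assoc, Iso.hom_inv_id_assoc]
    refine (((EtCoh.pullPushAdj f).homEquiv _ _).symm_apply_apply (c.hom ≫ φ)).symm.trans ?_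
    exact (congrArg ((EtCoh.pullPushAdj f).homEquiv _ _).symm hψ'.symm).trans
      ((EtCoh.pullPushAdj f).homEquiv_naturality_right_symm _ _)
  rw [key, ← Ext.mk₀_comp_mk₀, Ext.comp_assoc_of_second_deg_zero, hT.comp_extClass, Ext.comp_zero]

/-- Vanishing descends from the direct image, higher degrees. -/
theorem step_succ [(EtCoh.push f).Additive] {T : ShortComplex (EtCoh.Ab X)} (hT : T.ShortExact)
    (hT' : (T.map (EtCoh.push f)).ShortExact) [Injective T.X₂] (n : ℕ)
    (h : ∀ z : EtCoh.H Y ((EtCoh.push f).obj T.X₁) (n + 2), z = 0)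
    (ih : (∀ z : EtCoh.H Y ((EtCoh.push f).obj T.X₃) (n + 1), z = 0) → ∀ x : EtCoh.H X T.X₃ (n + 1), x = 0)
    (x : EtCoh.H X T.X₁ (n + 2)) : x = 0 := by
  haveI : Injective (T.map (EtCoh.push f)).X₂ := Injective.injective_of_adjoint (EtCoh.pullPushAdj f) T.X₂
  obtain ⟨x₃, rfl⟩ := Ext.covariant_sequence_exact₁ _ hT x (Ext.eq_zero_of_injective _) (n₀ := n + 1) rfl
  have h3 : ∀ z : EtCoh.H Y ((EtCoh.push f).obj T.X₃) (n + 1), z = 0 := by
    intro z
    obtain ⟨w, hw⟩ := Ext.covariant_sequence_exact₃ _ hT' z rfl (h _)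
    have hw0 : w = 0 := Ext.eq_zero_of_injective _
    subst hw0
    exact hw.symm.trans (Ext.zero_comp ..)
  rw [ih h3 x₃]
  exact Ext.zero_comp ..

theorem leray_bound (F : EtCoh.Ab X) (N : ℕ) (hN : N • 𝟙 F = 0) (d : ℕ)
    (hR : ∀ q : ℕ, 1 < q → IsZero ((EtCoh.Rpush f q).obj F))
    (hY : ∀ G : EtCoh.Ab Y, N • 𝟙 G = 0 → ∀ n : ℕ, d < n → ∀ z : EtCoh.H Y G n, z = 0)
    (q : ℕ) (hq : d + 1 < q) (x : EtCoh.H X F q) : x = 0 := by
  haveI : PreservesLimitsOfSize.{0, 0} (EtCoh.push f) := (EtCoh.pullPushAdj f).rightAdjoint_preservesLimits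
  haveI : PreservesFiniteLimits (EtCoh.push f) := ⟨fun _ _ _ => inferInstance⟩
  haveI : (EtCoh.push f).Additive := Functor.additive_of_preserves_binary_products _
  let P := InjectiveResolution.of F
  haveI hI : ∀ k, Injective (seq P k).X₂ := fun k => P.injective k
  have hex : ∀ k, 1 ≤ k → ((seq P k).map (EtCoh.push f)).ShortExact :=
    seq_map_shortExact_of_le P (EtCoh.push f) 1 hR
  -- descent from the direct image on cycles
  have hdesc : ∀ n k, 1 ≤ k → (∀ z : EtCoh.H Y ((EtCoh.push f).obj (cyc P k)) (n + 1), z = 0) →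
      ∀ x : EtCoh.H X (cyc P k) (n + 1), x = 0 := by
    intro n
    induction n with
    | zero => exact fun k hk h => step_one f (seq_shortExact P k) (hex k hk) h
    | succ n ih => exact fun k hk h => step_succ f (seq_shortExact P k) (hex k hk) n h (ih (k + 1) (by omega))
  have hT := seq_shortExact P 0
  obtain ⟨m, rfl⟩ : ∃ m, q = m + 2 := ⟨q - 2, by omega⟩
  let e := isoCyc₀ P
  have hN0 : N • 𝟙 (seq P 0).X₁ = 0 := by
    show N • 𝟙 (cyc P 0) = 0
    rw [← cancel_epi e.hom, Preadditive.comp_nsmul, Category.comp_id, ← Category.id_comp e.hom,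
      ← Preadditive.nsmul_comp, hN, zero_comp, comp_zero]
  suffices hx : ∀ x : EtCoh.H X (seq P 0).X₁ (m + 2), x = 0 by
    have h := hx (x.comp (Ext.mk₀ e.hom) (add_zero _))
    have h2 := congrArg (fun t => Ext.comp t (Ext.mk₀ e.inv) (add_zero _)) h
    simpa using h2
  intro x
  obtain ⟨x₃, rfl⟩ := Ext.covariant_sequence_exact₁ _ hT x (Ext.eq_zero_of_injective _) (n₀ := m + 1) rfl
  suffices h3 : ∀ z : EtCoh.H Y ((EtCoh.push f).obj (cyc P 1)) (m + 1), z = 0 by
    rw [hdesc m 1 le_rfl h3 x₃]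
    exact Ext.zero_comp ..
  intro z
  let g := (EtCoh.push f).map (seq P 0).g
  -- the cokernel is killed by `N`
  obtain ⟨φ, hφ⟩ : ∃ φ : (seq P 0).X₃ ⟶ (seq P 0).X₂, (seq P 0).g ≫ φ = N • 𝟙 _ := by
    haveI := hT.epi_g
    exact ⟨hT.exact.desc (N • 𝟙 _) (by
      rw [Preadditive.comp_nsmul, Category.comp_id, ← Category.id_comp (seq P 0).f,
        ← Preadditive.nsmul_comp, hN0, zero_comp]), hT.exact.g_desc _ _⟩
  have hφ' : φ ≫ (seq P 0).g = N • 𝟙 _ := by
    haveI := hT.epi_g
    rw [← cancel_epi (seq P 0).g, ← Category.assoc, hφ, Preadditive.nsmul_comp, Category.id_comp,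
      Preadditive.comp_nsmul, Category.comp_id]
  have hR1 : N • 𝟙 (cokernel g) = 0 := by
    rw [← cancel_epi (cokernel.π g), comp_zero, Preadditive.comp_nsmul, Category.comp_id,
      ← Category.id_comp (cokernel.π g), ← Preadditive.nsmul_comp,
      show (N • 𝟙 _ : (EtCoh.push f).obj (seq P 0).X₃ ⟶ _) = (EtCoh.push f).map φ ≫ g from by
        rw [← Functor.map_comp, hφ', Functor.map_nsmul, CategoryTheory.Functor.map_id],
      Category.assoc, cokernel.condition, comp_zero]
  -- the two short exact sequences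
  let S₁ : ShortComplex (EtCoh.Ab Y) :=
    ShortComplex.mk (kernel.ι (cokernel.π g)) (cokernel.π g) (kernel.condition _)
  have hS₁ : S₁.ShortExact := { exact := ShortComplex.exact_kernel (cokernel.π g) }
  obtain ⟨w, rfl⟩ := Ext.covariant_sequence_exact₂ _ hS₁ z (hY _ hR1 (m + 1) (by omega) _)
  let i' : (EtCoh.push f).obj (seq P 0).X₂ ⟶ S₁.X₁ := kernel.lift _ g (cokernel.condition g)
  let S₀ : ShortComplex (EtCoh.Ab Y) := ShortComplex.mk ((EtCoh.push f).map (seq P 0).f) i' (by
    rw [← cancel_mono S₁.f, Category.assoc, zero_comp]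
    show _ ≫ kernel.lift _ _ _ ≫ kernel.ι _ = 0
    rw [kernel.lift_ι, ← Functor.map_comp, (seq P 0).zero, Functor.map_zero])
  haveI : Epi i' := inferInstanceAs (Epi (Abelian.factorThruImage g))
  have hS₀ : S₀.ShortExact := by
    have hk : ((seq P 0).map (EtCoh.push f)).Exact :=
      hT.exact.map_of_mono_of_preservesKernel _ hT.mono_f inferInstance
    haveI : Mono S₀.f := have := hT.mono_f; (EtCoh.push f).map_mono _
    refine { exact := ?_, mono_f := inferInstance, epi_g := inferInstance }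
    let ψm : S₀ ⟶ (seq P 0).map (EtCoh.push f) := ShortComplex.homMk (𝟙 _) (𝟙 _) S₁.f
      ((Category.id_comp _).trans (Category.comp_id _).symm)
      ((Category.id_comp _).trans (kernel.lift_ι _ g _).symm)
    haveI : Epi ψm.τ₁ := inferInstanceAs (Epi (𝟙 _))
    haveI : IsIso ψm.τ₂ := inferInstanceAs (IsIso (𝟙 _))
    haveI : Mono ψm.τ₃ := inferInstanceAs (Mono (kernel.ι (cokernel.π g)))
    exact (ShortComplex.exact_iff_of_epi_of_isIso_of_mono ψm).2 hk
  haveI : Injective S₀.X₂ := Injective.injective_of_adjoint (EtCoh.pullPushAdj f) (seq P 0).X₂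
  have hw : w = 0 := by
    have hN' : N • 𝟙 S₀.X₁ = 0 := by
      show N • 𝟙 ((EtCoh.push f).obj (seq P 0).X₁) = 0
      rw [← CategoryTheory.Functor.map_id, ← Functor.map_nsmul, hN0, Functor.map_zero]
    obtain ⟨v, hv⟩ := Ext.covariant_sequence_exact₃ _ hS₀ w (n₁ := m + 2) rfl (hY _ hN' (m + 2) (by omega) _)
    have hv0 : v = 0 := Ext.eq_zero_of_injective _
    subst hv0
    exact hv.symm.trans (Ext.zero_comp ..)
  rw [hw]
  exact Ext.zero_comp ..

end Groth.Agent.H61.CdTrans
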