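import Groth.Agent.H61.CdTrans.Fields
import Groth.Prelude.Def_Dix
import Mathlib.CategoryTheory.Limits.Preserves.Opposites

/-!
# Cohomological dimension along finitely generated extensions

* `bound_fg`: `cd(k') ≤ cd(k) + trdeg` for sheaves killed by `N`.
* `exists_killed`, `exists_killed_primary`: torsion classes come from killed sheaves.
-/

set_option autoImplicit false
set_option linter.style.haveILetI false

universe u

open CategoryTheory CategoryTheory.Limits CategoryTheory.Abelian AlgebraicGeometry Opposite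

noncomputable section

namespace Groth.Agent.H61.CdTrans

open Groth.Agent.H61.FieldCoh

theorem bound_mono {X : Scheme.{u}} {N d d' : ℕ} (h : Bound X N d) (hd : d ≤ d') : Bound X N d' :=
  fun G hG q hq x => h G hG q (lt_of_le_of_lt hd hq) x

variable {k k' : Type u} [Field k] [Field k'] [Algebra k k']

theorem exists_subfield_bound {N d : ℕ} (hN : 0 < N) (h : Bound (S k) N d) (s : Finset k') :
    ∃ (E : IntermediateField k k') (m : ℕ), (s : Set k') ⊆ E ∧ (m : Cardinal) ≤ Algebra.trdeg k E ∧
      Bound (S E) N (d + m) := by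
  classical
  induction s using Finset.induction with
  | empty =>
    refine ⟨⊥, 0, by simp, by simp, ?_⟩
    exact h.of_finite ((IntermediateField.botEquiv k k').symm.toRingEquiv.toRingHom)
      (RingHom.isIntegral_of_surjective _ (IntermediateField.botEquiv k k').symm.surjective)
  | insert a s _ ih =>
    obtain ⟨E, m, hsE, hm, hE⟩ := ih
    let E'' := IntermediateField.adjoin E {a}
    let E' : IntermediateField k k' := E''.restrictScalars k
    have hsub : ((insert a s : Finset k') : Set k') ⊆ E' := by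
      rw [Finset.coe_insert, Set.insert_subset_iff]
      exact ⟨IntermediateField.mem_adjoin_simple_self E a,
        fun x hx => IntermediateField.algebraMap_mem E'' (⟨x, hsE hx⟩ : E)⟩
    have hadd : Algebra.trdeg k E + Algebra.trdeg E E'' = Algebra.trdeg k E'' := trdeg_add_eq k E
    by_cases ha : IsIntegral E a
    · refine ⟨E', m, hsub, ?_, ?_⟩
      · calc (m : Cardinal) ≤ Algebra.trdeg k E + Algebra.trdeg E E'' := hm.trans le_self_add
          _ = Algebra.trdeg k E' := hadd
      · haveI : FiniteDimensional E E'' := IntermediateField.adjoin.finiteDimensional ha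
        exact hE.of_finite (algebraMap E E'') (algebraMap_isIntegral_iff.2 inferInstance)
    · have htr : Transcendental E a := fun h' => ha h'.isIntegral
      refine ⟨E', m + 1, hsub, ?_, ?_⟩
      · haveI : Algebra.Transcendental E E'' := ⟨⟨_, (transcendental_algebraMap_iff
          (FaithfulSMul.algebraMap_injective E'' k') (a := IntermediateField.AdjoinSimple.gen E a)).1
          (by simpa using htr)⟩⟩
        rw [Nat.cast_add, Nat.cast_one]
        calc (m : Cardinal) + 1 ≤ Algebra.trdeg k E + Algebra.trdeg E E'' :=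
              add_le_add hm (Cardinal.one_le_iff_ne_zero.2 (trdeg_ne_zero_iff.2 inferInstance))
          _ = Algebra.trdeg k E' := hadd
      · rw [← add_assoc]
        let e := RatFunc.algEquivOfTranscendental a htr
        exact (bound_ratFunc E hN hE).of_finite (L := E'') e.toRingEquiv.toRingHom
          (RingHom.isIntegral_of_surjective _ e.surjective)

theorem bound_fg (hfg : ∃ s : Finset k', IntermediateField.adjoin k (s : Set k') = ⊤) {N d t : ℕ} (hN : 0 < N)
    (ht : Algebra.trdeg k k' ≤ t) (h : Bound (S k) N d) : Bound (S k') N (d + t) := by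
  obtain ⟨s, hs⟩ := hfg
  obtain ⟨E, m, hsE, hm, hE⟩ := exists_subfield_bound hN h s
  have hmt : m ≤ t := by
    have h1 : (m : Cardinal) ≤ (t : Cardinal) :=
      hm.trans ((trdeg_le_of_injective E.val E.val.injective).trans ht)
    exact_mod_cast h1
  have hsurj : Function.Surjective E.val := fun x => by
    have hx : x ∈ E := IntermediateField.adjoin_le_iff.2 hsE (hs ▸ IntermediateField.mem_top : x ∈ _)
    exact ⟨⟨x, hx⟩, rfl⟩
  exact bound_mono (hE.of_finite E.val.toRingHom (RingHom.isIntegral_of_surjective _ hsurj)) (by omega)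

variable {K : Type u} [Field K]

/-- A finite sheaf whose sections over the splitting field are killed by `n` is killed by `n`. -/
theorem nsmul_id_of_fin {N : Type u} [Field N] [Algebra K N] [FiniteDimensional K N] [Algebra.IsSeparable K N]
    [Algebra.Etale K N] {G : EtCoh.Ab (S K)} (hG : Fin N G) {n : ℕ} (h : ∀ s : EtCoh.sect G (O K N), n • s = 0) :
    n • 𝟙 G = 0 :=
  hG.hom_eq_zero _ fun t => by rw [nsmul_id_app]; exact h t

/-- Torsion classes come from sheaves killed by an integer. -/
theorem exists_killed (F : EtCoh.Ab (S K)) (hF : EtCoh.IsTorsion F) (q : ℕ) (x : EtCoh.H (S K) F q) :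
    ∃ (G : EtCoh.Ab (S K)) (ι : G ⟶ F) (n : ℕ) (x' : EtCoh.H (S K) G q), 0 < n ∧ n • 𝟙 G = 0 ∧
      x'.comp (Ext.mk₀ ι) (add_zero q) = x := by
  obtain ⟨N, _, _, _, _, _, G, ι, hι, hfin, x', hx⟩ := exists_fin (K := K) q F hF x
  haveI := hfin.1
  exact ⟨G, ι, Nat.card (EtCoh.sect G (O K N)), x', Nat.card_pos,
    nsmul_id_of_fin hfin fun s => card_nsmul_eq_zero', hx⟩

theorem isTorsion_of_primary {F : EtCoh.Ab (S K)} {ℓ : ℕ} (hℓ : 0 < ℓ) (hF : Dix.IsPrimaryTorsion ℓ F) :
    EtCoh.IsTorsion F := fun U s x => by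
  obtain ⟨V, g, hv, m, hm⟩ := hF U s x
  exact ⟨V, g, hv, isOfFinAddOrder_iff_nsmul_eq_zero.2 ⟨ℓ ^ m, pow_pos hℓ m, hm⟩⟩

/-- `ℓ`-primary classes come from sheaves killed by a power of `ℓ`. -/
theorem exists_killed_primary (F : EtCoh.Ab (S K)) (ℓ : ℕ) (hℓ : 0 < ℓ) (hF : Dix.IsPrimaryTorsion ℓ F) (q : ℕ)
    (x : EtCoh.H (S K) F q) :
    ∃ (G : EtCoh.Ab (S K)) (ι : G ⟶ F) (m : ℕ) (x' : EtCoh.H (S K) G q), ℓ ^ m • 𝟙 G = 0 ∧
      x'.comp (Ext.mk₀ ι) (add_zero q) = x := by
  obtain ⟨N, _, _, _, _, _, G, ι, hι, hfin, x', hx⟩ := exists_fin (K := K) q F (isTorsion_of_primary hℓ hF) x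
  haveI := hfin.1
  have hs : ∀ s : EtCoh.sect G (O K N), ∃ m, ℓ ^ m • s = 0 := by
    intro s
    obtain ⟨V, g, ⟨v, -⟩, m, hm⟩ := hF (O K N) (ι.hom.app (op (O K N)) s) (⟨⊥, Ideal.isPrime_bot⟩ : PrimeSpectrum N)
    obtain ⟨M, _, _, _, _, _, b, -, -⟩ := exists_field_point' V v
    obtain ⟨φ, hφ⟩ := exists_homO (b ≫ g)
    refine ⟨m, ?_⟩
    apply injective_app_of_mono ι
    rw [map_nsmul, map_zero]
    apply map_homO_injective F φ
    rw [map_nsmul, hφ, ← map_map, ← map_nsmul, hm, map_zero, map_zero]
  choose m hm using hs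
  haveI := Fintype.ofFinite (EtCoh.sect G (O K N))
  refine ⟨G, ι, Finset.univ.sup m, x', nsmul_id_of_fin hfin fun s => ?_, hx⟩
  obtain ⟨j, hj⟩ := Nat.exists_eq_add_of_le (Finset.le_sup (f := m) (Finset.mem_univ s))
  rw [hj, pow_add, mul_nsmul, hm, nsmul_zero]

theorem isPrimary_of_killed {X : Scheme.{u}} (G : EtCoh.Ab X) (ℓ m : ℕ) (h : ℓ ^ m • 𝟙 G = 0) :
    Dix.IsPrimaryTorsion ℓ G := fun U s x => ⟨U, 𝟙 U, ⟨x, rfl⟩, m, by
  rw [op_id, CategoryTheory.Functor.map_id, ConcreteCategory.id_apply, ← nsmul_id_app, h]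
  rfl⟩

/-- The finitely generated subextensions. -/
abbrev FGSub (k K : Type u) [Field k] [Field K] [Algebra k K] : Type u := {E : IntermediateField k K // E.FG}

instance (k K : Type u) [Field k] [Field K] [Algebra k K] : IsDirectedOrder (FGSub k K) :=
  ⟨fun a b => ⟨⟨a.1 ⊔ b.1, IntermediateField.fg_sup a.2 b.2⟩, Subtype.coe_le_coe.1 le_sup_left,
    Subtype.coe_le_coe.1 le_sup_right⟩⟩

instance (k K : Type u) [Field k] [Field K] [Algebra k K] : Nonempty (FGSub k K) :=
  ⟨⟨⊥, IntermediateField.fg_bot⟩⟩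

/-- The system of finitely generated subextensions. -/
def fgFunctor (k K : Type u) [Field k] [Field K] [Algebra k K] : FGSub k K ⥤ CommRingCat.{u} where
  obj E := CommRingCat.of E.1
  map f := CommRingCat.ofHom (IntermediateField.inclusion (Subtype.coe_le_coe.2 f.le)).toRingHom
  map_id _ := by ext x; rfl
  map_comp _ _ := by ext x; rfl

/-- The field is the union of its finitely generated subextensions. -/
def fgCocone (k K : Type u) [Field k] [Field K] [Algebra k K] : Cocone (fgFunctor k K) where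
  pt := CommRingCat.of K
  ι := { app := fun E => CommRingCat.ofHom (IntermediateField.val E.1).toRingHom
         naturality := fun _ _ _ => by ext x; rfl }

theorem nonempty_isColimit_fgCocone (k K : Type u) [Field k] [Field K] [Algebra k K] :
    Nonempty (IsColimit (fgCocone k K)) := by
  haveI : IsFiltered (FGSub k K) := isFiltered_of_directed_le_nonempty (FGSub k K)
  haveI : HasColimit (fgFunctor k K) := inferInstance
  haveI : ReflectsColimit (fgFunctor k K) (forget CommRingCat.{u}) :=
    reflectsColimit_of_reflectsIsomorphisms _ _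
  refine ⟨isColimitOfReflects (forget CommRingCat.{u})
    (Types.FilteredColimit.isColimitOf _ _ (fun x ↦ ?_) fun i j xi xj h ↦ ?_)⟩
  · let x' : K := x
    exact ⟨⟨IntermediateField.adjoin k {x'}, IntermediateField.fg_adjoin_of_finite (Set.finite_singleton x')⟩,
      ⟨x', IntermediateField.mem_adjoin_simple_self k x'⟩, rfl⟩
  · obtain ⟨m, him, hjm⟩ := exists_ge_ge i j
    exact ⟨m, homOfLE him, homOfLE hjm, Subtype.ext h⟩

end Groth.Agent.H61.CdTrans
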